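import Groth.Agent.Lib.Imperf4.Exact
import Groth.Agent.Lib.GeomRed18.Perfect
import Groth.Agent.S2484
import Mathlib.FieldTheory.IntermediateField.Basic
import Mathlib.RingTheory.Nilpotent.GeometricallyReduced

/-! # Admissible subfields -/

set_option autoImplicit false
set_option linter.style.haveILetI false
universe v w

namespace Groth.Agent.Imperf4

open TensorProduct KaehlerDifferential

/-- Separability passes to a field with the same image. -/
theorem isGeometricallyReduced_of_surjective {k : Type v} {L : Type w} [Field k] [Field L] [Algebra k L]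
    {k' : Type w} [Field k'] [Algebra k k'] [Algebra k' L]
    [IsScalarTower k k' L] (hs : Function.Surjective (algebraMap k k')) [Algebra.IsGeometricallyReduced k L] :
    Algebra.IsGeometricallyReduced k' L := by
  haveI : Algebra.IsAlgebraic k k' := ⟨fun x => by obtain ⟨y, rfl⟩ := hs x; exact isAlgebraic_algebraMap y⟩
  haveI : Algebra.IsAlgebraic k (AlgebraicClosure k') := Algebra.IsAlgebraic.trans k k' (AlgebraicClosure k')
  rw [Algebra.isGeometricallyReduced_field_iff]
  haveI : IsReduced (AlgebraicClosure k' ⊗[k] L) := inferInstance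
  let φ : AlgebraicClosure k' ⊗[k] L →ₐ[k] AlgebraicClosure k' ⊗[k'] L :=
    Algebra.TensorProduct.lift
      (Algebra.TensorProduct.includeLeft (R := k') (S := k) (A := AlgebraicClosure k') (B := L))
      ((Algebra.TensorProduct.includeRight (R := k') (A := AlgebraicClosure k') (B := L)).restrictScalars k) fun _ _ => Commute.all _ _
  have hsm : ∀ (c : k') (a : AlgebraicClosure k') (l : L), (c • a) ⊗ₜ[k] l = a ⊗ₜ[k] (c • l) := fun c a l => by
    obtain ⟨y, rfl⟩ := hs c
    rw [algebraMap_smul, algebraMap_smul, smul_tmul]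
  let ψ : AlgebraicClosure k' ⊗[k'] L →+ AlgebraicClosure k' ⊗[k] L :=
    TensorProduct.liftAddHom
      { toFun := fun a => { toFun := fun l => a ⊗ₜ l, map_zero' := tmul_zero _ _, map_add' := tmul_add _ }
        map_zero' := by ext l; exact zero_tmul _ l
        map_add' := fun a b => by ext l; exact add_tmul a b l }
      fun c a l => hsm c a l
  have hψ : ∀ z, φ (ψ z) = z := fun z => by
    induction z using TensorProduct.induction_on with
    | zero => simp
    | add _ _ hx hy => rw [map_add, map_add, hx, hy]
    | tmul a l => simp [ψ, φ]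
  refine ⟨fun x hx => ?_⟩
  obtain ⟨n, hn⟩ := hx
  have h1 : IsNilpotent (ψ x) := by
    refine ⟨n + 1, ?_⟩
    have hmul : ∀ a b, ψ (a * b) = ψ a * ψ b := fun a b => by
      induction a using TensorProduct.induction_on with
      | zero => simp
      | add _ _ hx hy => rw [add_mul, map_add, map_add, add_mul, hx, hy]
      | tmul a l =>
        induction b using TensorProduct.induction_on with
        | zero => simp
        | add _ _ hx hy => rw [mul_add, map_add, map_add, mul_add, hx, hy]
        | tmul a' l' => simp [ψ]
    have hpow : ∀ m, ψ (x ^ (m + 1)) = ψ x ^ (m + 1) := fun m => by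
      induction m with
      | zero => simp
      | succ m ih => rw [pow_succ, hmul, ih, ← pow_succ]
    rw [← hpow, pow_succ, hn, zero_mul, map_zero]
  rw [← hψ x, isNilpotent_iff_eq_zero.1 h1, map_zero]

/-- The kernel from a base over which the extension is separable is trivial. -/
theorem eq_zero_of_mem_span {k₀ k' K L : Type w} [Field k₀] [Field k'] [Field K] [Field L] [Algebra k₀ k']
    [Algebra k₀ K] [Algebra k₀ L] [Algebra k' K] [Algebra k' L] [Algebra K L] [IsScalarTower k₀ k' K]
    [IsScalarTower k₀ k' L] [IsScalarTower k₀ K L] [IsScalarTower k' K L] [Algebra.IsGeometricallyReduced k' L]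
    {z : L ⊗[K] Ω[K⁄k₀]} (hz : z ∈ EGA41.imperfection k₀ K L)
    (hspan : z ∈ Submodule.span L (Set.range fun x : k' => (1 : L) ⊗ₜ[K] D k₀ K (algebraMap k' K x))) : z = 0 := by
  let e : L ⊗[k'] Ω[k'⁄k₀] →ₗ[L] L ⊗[K] Ω[K⁄k₀] := LinearMap.liftBaseChange L
    (((TensorProduct.mk K L Ω[K⁄k₀] 1).restrictScalars k').comp (KaehlerDifferential.map k₀ k₀ k' K))
  have he : ∀ x : k', e (1 ⊗ₜ D k₀ k' x) = 1 ⊗ₜ D k₀ K (algebraMap k' K x) := fun x => by
    rw [LinearMap.liftBaseChange_tmul, one_smul, LinearMap.comp_apply]
    show (1 : L) ⊗ₜ[K] KaehlerDifferential.map k₀ k₀ k' K (D k₀ k' x) = _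
    rw [map_D]
  have hmem : z ∈ LinearMap.range e := by
    refine (Submodule.span_le.2 ?_) hspan
    rintro _ ⟨x, rfl⟩
    exact ⟨_, he x⟩
  obtain ⟨y, rfl⟩ := hmem
  have hcomp : ∀ t, mapBaseChange k₀ K L (e t) = mapBaseChange k₀ k' L t := fun t => by
    induction t using TensorProduct.induction_on with
    | zero => simp
    | add _ _ hx hy => rw [map_add, map_add, map_add, hx, hy]
    | tmul l ω =>
      rw [show l ⊗ₜ[k'] ω = l • ((1 : L) ⊗ₜ[k'] ω) by rw [smul_tmul', smul_eq_mul, mul_one], map_smul, map_smul,
        map_smul]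
      congr 1
      have hω : ω ∈ Submodule.span k' (Set.range (D k₀ k')) := by rw [span_range_derivation]; trivial
      induction hω using Submodule.span_induction with
      | mem w hw =>
        obtain ⟨x, rfl⟩ := hw
        rw [he, mapBaseChange_tmul, mapBaseChange_tmul, map_D, map_D, ← IsScalarTower.algebraMap_apply]
      | zero => simp
      | add _ _ _ _ hx hy => rw [tmul_add, map_add, map_add, map_add, hx, hy]
      | smul c w _ hy => rw [tmul_smul, ← algebraMap_smul L c, map_smul, map_smul, map_smul, hy]
  have hy : y = 0 := (Groth.Agent.S2484.result (K := k₀) (E := k') (F := L)).1 inferInstance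
    ((hcomp y).symm.trans (hz.trans (map_zero _).symm))
  rw [hy, map_zero]

variable {k : Type v} {k₀ K L : Type w}
    [Field k₀] [Field k] [Field K] [Field L] [Algebra k₀ k] [Algebra k₀ K] [Algebra k₀ L] [Algebra k K]
    [Algebra k L] [Algebra K L] [IsScalarTower k₀ k K] [IsScalarTower k₀ k L] [IsScalarTower k₀ K L]
    [IsScalarTower k K L]

theorem admissible (p : ℕ) [ExpChar K p]
    (h : Algebra.IsGeometricallyReduced k L ∨ Algebra.IsGeometricallyReduced K L ∨
      ∀ x : k, algebraMap k K x ∈ EGA41.pPowerSubalgebra p k₀ K)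
    (z : L ⊗[K] Ω[K⁄k₀]) (hz : z ∈ EGA41.imperfection k₀ K L)
    (hz0 : (KaehlerDifferential.map k₀ k K K).baseChange L z = 0) : z = 0 := by
  have hspan := ker_baseChange_map_le_span k₀ k K L hz0
  have hK : Algebra.IsGeometricallyReduced K L → z = 0 := fun hKL =>
    (Groth.Agent.S2484.result (K := k₀) (E := K) (F := L)).1 hKL (hz.trans (map_zero _).symm)
  rcases h with hkL | hKL | hx
  · let k' : IntermediateField k₀ K := (IsScalarTower.toAlgHom k₀ k K).fieldRange
    let π : k →+* k' := (algebraMap k K).codRestrict k' fun x => ⟨x, rfl⟩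
    letI : Algebra k k' := π.toAlgebra
    haveI : IsScalarTower k k' L := .of_algebraMap_eq fun x => (IsScalarTower.algebraMap_apply k K L x)
    have hs : Function.Surjective (algebraMap k k') := by
      rintro ⟨y, x, rfl⟩
      exact ⟨x, rfl⟩
    haveI := isGeometricallyReduced_of_surjective (k := k) (L := L) (k' := k') hs
    refine eq_zero_of_mem_span (k' := k') hz (Submodule.span_mono ?_ hspan)
    rintro _ ⟨x, rfl⟩
    exact ⟨algebraMap k k' x, rfl⟩
  · exact hK hKL
  · rcases expChar_is_prime_or_one K p with hp | hp1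
    · haveI : Fact p.Prime := ⟨hp⟩
      haveI : CharP K p := by
        rcases ‹ExpChar K p› with _ | hq
        · exact absurd hp Nat.not_prime_one
        · assumption
      have hD : ∀ x ∈ EGA41.pPowerSubalgebra p k₀ K, D k₀ K x = 0 := fun x hx => by
        induction hx using Algebra.adjoin_induction with
        | mem w hw =>
          obtain ⟨y, rfl⟩ := hw
          rw [Derivation.leibniz_pow, ← Nat.cast_smul_eq_nsmul K, CharP.cast_eq_zero, zero_smul]
        | algebraMap r => exact Derivation.map_algebraMap _ r
        | add u w _ _ hu hw => rw [map_add, hu, hw, add_zero]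
        | mul u w _ _ hu hw => rw [Derivation.leibniz, hu, hw, smul_zero, smul_zero, add_zero]
      refine (Submodule.mem_bot L).1 ((Submodule.span_le.2 ?_) hspan)
      rintro _ ⟨x, rfl⟩
      simp [hD _ (hx x)]
    · subst hp1
      haveI : CharZero K := charZero_of_expChar_one' K
      haveI : PerfectField K := PerfectField.ofCharZero
      exact hK ((Sep.formallySmooth_iff_isGeometricallyReduced K L).mp (FieldFS.formallySmooth_of_perfectField (F := K) (L := L)))

end Groth.Agent.Imperf4
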