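import Groth.Agent.Lib.Imperf4.Exact
import Mathlib.LinearAlgebra.TensorProduct.Basis
import Mathlib.LinearAlgebra.LinearIndependent.Lemmas
import Mathlib.LinearAlgebra.Basis.VectorSpace

/-! # Finite spans of base-changed differentials -/

set_option autoImplicit false
set_option linter.style.haveILetI false
universe u v w

namespace Groth.Agent.Imperf4

open TensorProduct KaehlerDifferential

variable {k₀ : Type u} {k : Type v} {K L : Type w} [Field k₀] [Field k] [Field K] [Field L] [Algebra k₀ k]
  [Algebra k₀ K] [Algebra k K] [IsScalarTower k₀ k K] [Algebra K L]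

omit [Algebra k₀ k] [Algebra k₀ K] [Algebra k K] [IsScalarTower k₀ k K] in
theorem linearIndependent_one_tmul {ι : Type*} {V : Type*} [AddCommGroup V] [Module K V] {v : ι → V}
    (hv : LinearIndependent K v) : LinearIndependent L fun j => (1 : L) ⊗ₜ[K] v j := by
  classical
  refine linearIndependent_iff'.2 fun s c hc i hi => ?_
  obtain ⟨g, hg⟩ := LinearMap.exists_leftInverse_of_injective (Finsupp.linearCombination K v) (LinearMap.ker_eq_bot.2 hv)
  let φ : V →ₗ[K] K := (Finsupp.lapply (R := K) i).comp g
  have hφ : ∀ j, φ (v j) = if j = i then 1 else 0 := fun j => by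
    have : g (v j) = Finsupp.single j 1 := by
      have h := LinearMap.congr_fun hg (Finsupp.single j 1)
      rwa [LinearMap.comp_apply, Finsupp.linearCombination_single, one_smul, LinearMap.id_apply] at h
    show (g (v j)) i = _
    rw [this, Finsupp.single_apply]
  have h := congrArg (((Algebra.linearMap K L).comp φ).liftBaseChange L) hc
  simp only [map_sum, map_smul, LinearMap.liftBaseChange_tmul, one_smul, LinearMap.comp_apply, hφ, apply_ite,
    map_one, map_zero, smul_eq_mul, mul_one, mul_zero] at h
  simpa [hi, apply_ite] using h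

/-- A finite submodule lies in the span of finitely many independent differentials. -/
theorem exists_fin_span (V : Submodule L (L ⊗[K] Ω[K⁄k₀])) [Module.Finite L V] :
    ∃ (m : ℕ) (x : Fin m → K), LinearIndependent K (fun j => D k₀ K (x j)) ∧
      V ≤ Submodule.span L (Set.range fun j => (1 : L) ⊗ₜ[K] D k₀ K (x j)) := by
  classical
  obtain ⟨s, hs⟩ := (Module.Finite.iff_fg.1 ‹Module.Finite L V›)
  have htop : Submodule.span L (Set.range fun x : K => (1 : L) ⊗ₜ[K] D k₀ K x) = ⊤ := by
    refine eq_top_iff.2 fun z hz => ?_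
    clear hz
    induction z using TensorProduct.induction_on with
    | zero => exact zero_mem _
    | add _ _ hx hy => exact add_mem hx hy
    | tmul l ω =>
      have hω : ω ∈ Submodule.span K (Set.range (D k₀ K)) := by rw [span_range_derivation]; trivial
      induction hω using Submodule.span_induction with
      | mem y hy =>
        obtain ⟨x, rfl⟩ := hy
        rw [show l ⊗ₜ[K] D k₀ K x = l • ((1 : L) ⊗ₜ[K] D k₀ K x) by rw [smul_tmul', smul_eq_mul, mul_one]]
        exact Submodule.smul_mem _ _ (Submodule.subset_span ⟨x, rfl⟩)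
      | zero => simp
      | add _ _ _ _ hx hy => rw [tmul_add]; exact add_mem hx hy
      | smul c y _ hy => rw [tmul_smul, ← algebraMap_smul L c]; exact Submodule.smul_mem _ _ hy
  choose T hT hTs using fun z : L ⊗[K] Ω[K⁄k₀] => Submodule.mem_span_finite_of_mem_span (htop ▸ Submodule.mem_top :
    z ∈ Submodule.span L (Set.range fun x : K => (1 : L) ⊗ₜ[K] D k₀ K x))
  choose g hg using fun (z : L ⊗[K] Ω[K⁄k₀]) (y : T z) => hT z y.2
  let X : Finset K := s.biUnion fun z => Finset.univ.image (g z)
  haveI : Module.Finite K (Submodule.span K ((fun x => D k₀ K x) '' (X : Set K))) :=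
    Module.Finite.span_of_finite _ (X.finite_toSet.image _)
  obtain ⟨v, hv, hvspan, hvli⟩ := Submodule.exists_fun_fin_finrank_span_eq K ((fun x => D k₀ K x) '' (X : Set K))
  choose x hx hxv using hv
  refine ⟨_, x, by simpa [hxv] using hvli, ?_⟩
  rw [← hs, Submodule.span_le]
  intro z hz
  refine (Submodule.span_le.2 fun y hy => ?_) (hTs z)
  rw [show y = (1 : L) ⊗ₜ[K] D k₀ K (g z ⟨y, hy⟩) from (hg z ⟨y, hy⟩).symm]
  have hmem : D k₀ K (g z ⟨y, hy⟩) ∈ Submodule.span K (Set.range v) := by
    rw [hvspan]
    exact Submodule.subset_span ⟨_, Finset.mem_biUnion.2 ⟨z, hz, Finset.mem_image.2 ⟨_, Finset.mem_univ _, rfl⟩⟩, rfl⟩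
  obtain ⟨c, hc⟩ := (Submodule.mem_span_range_iff_exists_fun K).1 hmem
  show (1 : L) ⊗ₜ[K] D k₀ K (g z ⟨y, hy⟩) ∈ _
  rw [← hc, tmul_sum]
  refine sum_mem fun j _ => ?_
  rw [tmul_smul, ← algebraMap_smul L (c j), ← hxv]
  exact Submodule.smul_mem _ _ (Submodule.subset_span ⟨j, rfl⟩)

/-- Independent differentials over the larger base detect elements of the span. -/
theorem eq_zero_of_linearIndependent {ι : Type*} [Fintype ι] (x : ι → K)
    (hx : LinearIndependent K fun j => D k K (x j)) {z : L ⊗[K] Ω[K⁄k₀]}
    (hz : z ∈ Submodule.span L (Set.range fun j => (1 : L) ⊗ₜ[K] D k₀ K (x j)))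
    (hz0 : (KaehlerDifferential.map k₀ k K K).baseChange L z = 0) : z = 0 := by
  obtain ⟨c, rfl⟩ := (Submodule.mem_span_range_iff_exists_fun L).1 hz
  simp only [map_sum, map_smul, LinearMap.baseChange_tmul, map_D, Algebra.algebraMap_self, RingHom.id_apply] at hz0
  have h := Fintype.linearIndependent_iff.1 (linearIndependent_one_tmul (L := L) hx) c hz0
  simp [h]

end Groth.Agent.Imperf4
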