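import Groth.Agent.Lib.Imperf4.Exact
import Mathlib.LinearAlgebra.Dimension.Constructions
import Mathlib.LinearAlgebra.Dimension.RankNullity
import Mathlib.LinearAlgebra.TensorProduct.Tower
import Mathlib.RingTheory.Flat.Basic

/-! # Admissibility defects in towers -/

set_option autoImplicit false
set_option linter.style.haveILetI false
universe u u' u'' v w

namespace Groth.Agent.Imperf4

open TensorProduct KaehlerDifferential

theorem rank_eq_add_of_surjective {F : Type w} [Field F] {U V : Type w} [AddCommGroup U] [Module F U]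
    [AddCommGroup V] [Module F V] (g : U →ₗ[F] V) (hg : Function.Surjective g) :
    Module.rank F U = Module.rank F V + Module.rank F (LinearMap.ker g) := by
  rw [← g.rank_range_add_rank_ker, LinearMap.range_eq_top.2 hg, rank_top]

section Subfields

variable (k : Type u) (k' : Type u') (k'' : Type u'') (K L : Type w)
    [Field k] [Field k'] [Field k''] [Field K] [Field L]
    [Algebra k k'] [Algebra k k''] [Algebra k' k''] [IsScalarTower k k' k'']
    [Algebra k K] [Algebra k' K] [Algebra k'' K] [IsScalarTower k k' K] [IsScalarTower k' k'' K]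
    [IsScalarTower k k'' K] [Algebra K L] [Algebra k L] [Algebra k' L] [Algebra k'' L]
    [IsScalarTower k K L] [IsScalarTower k' K L] [IsScalarTower k'' K L]

/-- The base-changed map of differentials to a larger base. -/
noncomputable abbrev bc : L ⊗[K] Ω[K⁄k] →ₗ[L] L ⊗[K] Ω[K⁄k'] := (KaehlerDifferential.map k k' K K).baseChange L

omit [Algebra k L] [Algebra k' L] [Algebra k'' L] [IsScalarTower k K L] [IsScalarTower k' K L]
  [IsScalarTower k'' K L] in
theorem bc_bc (z : L ⊗[K] Ω[K⁄k]) : bc k' k'' K L (bc k k' K L z) = bc k k'' K L z := by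
  induction z using TensorProduct.induction_on with
  | zero => simp
  | add _ _ hx hy => rw [map_add, map_add, map_add, hx, hy]
  | tmul l ω =>
    rw [LinearMap.baseChange_tmul, LinearMap.baseChange_tmul, LinearMap.baseChange_tmul]
    congr 1
    have hω : ω ∈ Submodule.span K (Set.range (D k K)) := by rw [span_range_derivation]; trivial
    induction hω using Submodule.span_induction with
    | mem y hy => obtain ⟨x, rfl⟩ := hy; rw [map_D, map_D, map_D]; rfl
    | zero => simp
    | add _ _ _ _ hx hy => rw [map_add, map_add, map_add, hx, hy]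
    | smul c y _ hy => rw [map_smul, map_smul, map_smul, hy]

theorem exists_lift (w : L ⊗[K] Ω[K⁄k']) (hw : w ∈ EGA41.imperfection k' K L)
    (hw0 : bc k' k'' K L w = 0) :
    ∃ z : L ⊗[K] Ω[K⁄k], z ∈ EGA41.imperfection k K L ∧ bc k k'' K L z = 0 ∧ bc k k' K L z = w := by
  haveI : IsScalarTower k k' L := .of_algebraMap_eq fun x => by
    rw [IsScalarTower.algebraMap_apply k K L, IsScalarTower.algebraMap_apply k' K L,
      ← IsScalarTower.algebraMap_apply k k' K]
  obtain ⟨z₀, hz₀⟩ : ∃ z₀, bc k k' K L z₀ = w :=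
    LinearMap.lTensor_surjective L (KaehlerDifferential.map_surjective k k' K) w
  have h1 : KaehlerDifferential.map k k' L L (mapBaseChange k K L z₀) = mapBaseChange k' K L (bc k k' K L z₀) := by
    clear hz₀ hw
    induction z₀ using TensorProduct.induction_on with
    | zero => simp
    | add _ _ hx hy => rw [map_add, map_add, map_add, map_add, hx, hy]
    | tmul l ω =>
      rw [LinearMap.baseChange_tmul, mapBaseChange_tmul, mapBaseChange_tmul, map_smul]
      congr 1
      have hω : ω ∈ Submodule.span K (Set.range (D k K)) := by rw [span_range_derivation]; trivial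
      induction hω using Submodule.span_induction with
      | mem y hy => obtain ⟨x, rfl⟩ := hy; rw [map_D, map_D, map_D, map_D]; rfl
      | zero => simp
      | add _ _ _ _ hx hy => rw [map_add, map_add, map_add, map_add, hx, hy]
      | smul c y _ hy =>
        simp only [map_smul]
        simp only [← algebraMap_smul L c, map_smul, hy]
  rw [hz₀, show mapBaseChange k' K L w = 0 from hw] at h1
  have h2 := ker_map_le_span k k' L h1
  have h3 : mapBaseChange k K L z₀ ∈ (Submodule.span L (Set.range fun x : k' => (1 : L) ⊗ₜ[K] D k K (algebraMap k' K x))).map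
      (mapBaseChange k K L) := by
    rw [Submodule.map_span, ← Set.range_comp]
    refine Submodule.span_mono (le_of_eq (congrArg Set.range (funext fun x => ?_))) h2
    simp [map_D, ← IsScalarTower.algebraMap_apply]
  obtain ⟨y, hy, hyz⟩ := h3
  have hy0 : bc k k' K L y = 0 := baseChange_map_eq_zero_of_mem_span k k' K L hy
  have hzw : bc k k' K L (z₀ - y) = w := by rw [map_sub, hy0, sub_zero, hz₀]
  refine ⟨z₀ - y, ?_, ?_, hzw⟩
  · show mapBaseChange k K L (z₀ - y) = 0
    rw [map_sub, hyz, sub_self]
  · rw [← bc_bc k k' k'' K L, hzw, hw0]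

theorem mapBaseChange_bc (z : L ⊗[K] Ω[K⁄k]) (hz : z ∈ EGA41.imperfection k K L) :
    bc k k' K L z ∈ EGA41.imperfection k' K L := by
  haveI : IsScalarTower k k' L := .of_algebraMap_eq fun x => by
    rw [IsScalarTower.algebraMap_apply k K L, IsScalarTower.algebraMap_apply k' K L,
      ← IsScalarTower.algebraMap_apply k k' K]
  show mapBaseChange k' K L (bc k k' K L z) = 0
  have h : ∀ t, mapBaseChange k' K L (bc k k' K L t) = KaehlerDifferential.map k k' L L (mapBaseChange k K L t) := fun t => by
    induction t using TensorProduct.induction_on with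
    | zero => simp
    | add _ _ hx hy => rw [map_add, map_add, map_add, map_add, hx, hy]
    | tmul l ω =>
      rw [LinearMap.baseChange_tmul, mapBaseChange_tmul, mapBaseChange_tmul, map_smul]
      congr 1
      have hω : ω ∈ Submodule.span K (Set.range (D k K)) := by rw [span_range_derivation]; trivial
      induction hω using Submodule.span_induction with
      | mem y hy => obtain ⟨x, rfl⟩ := hy; rw [map_D, map_D, map_D, map_D]; rfl
      | zero => simp
      | add _ _ _ _ hx hy => rw [map_add, map_add, map_add, map_add, hx, hy]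
      | smul c y _ hy =>
        simp only [map_smul]
        simp only [← algebraMap_smul L c, map_smul, hy]
  rw [h, show mapBaseChange k K L z = 0 from hz, map_zero]

theorem rank_defect :
    Module.rank L ↥(EGA41.imperfection k K L ⊓ LinearMap.ker (bc k k'' K L)) =
      Module.rank L ↥(EGA41.imperfection k' K L ⊓ LinearMap.ker (bc k' k'' K L)) +
        Module.rank L ↥(EGA41.imperfection k K L ⊓ LinearMap.ker (bc k k' K L)) := by
  let g : ↥(EGA41.imperfection k K L ⊓ LinearMap.ker (bc k k'' K L)) →ₗ[L]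
      ↥(EGA41.imperfection k' K L ⊓ LinearMap.ker (bc k' k'' K L)) :=
    LinearMap.codRestrict _ ((bc k k' K L).comp (Submodule.subtype _)) fun z =>
      ⟨mapBaseChange_bc k k' K L z.1 z.2.1, (bc_bc k k' k'' K L z.1).trans z.2.2⟩
  have hsurj : Function.Surjective g := fun w => by
    obtain ⟨z, hz, hz'', hzw⟩ := exists_lift k k' k'' K L w.1 w.2.1 w.2.2
    exact ⟨⟨z, hz, hz''⟩, Subtype.ext hzw⟩
  let e : LinearMap.ker g ≃ₗ[L] ↥(EGA41.imperfection k K L ⊓ LinearMap.ker (bc k k' K L)) :=
    { toFun := fun z => ⟨z.1.1, z.1.2.1, congrArg Subtype.val (z.2 : g z.1 = 0)⟩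
      invFun := fun z => ⟨⟨z.1, z.2.1, show bc k k'' K L z.1 = 0 by
        rw [← bc_bc k k' k'' K L, show bc k k' K L z.1 = 0 from z.2.2, map_zero]⟩, Subtype.ext z.2.2⟩
      left_inv := fun _ => rfl
      right_inv := fun _ => rfl
      map_add' := fun _ _ => rfl
      map_smul' := fun _ _ => rfl }
  rw [rank_eq_add_of_surjective (U := ↥(EGA41.imperfection k K L ⊓ LinearMap.ker (bc k k'' K L)))
    (V := ↥(EGA41.imperfection k' K L ⊓ LinearMap.ker (bc k' k'' K L))) g hsurj]
  exact congrArg _ e.rank_eq

end Subfields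

section Extensions

variable (k₀ : Type u) (k : Type u') (K L M : Type w)
    [Field k₀] [Field k] [Field K] [Field L] [Field M] [Algebra k₀ k]
    [Algebra k₀ K] [Algebra k K] [IsScalarTower k₀ k K] [Algebra k₀ L] [Algebra k L] [IsScalarTower k₀ k L]
    [Algebra K L] [Algebra K M] [Algebra L M] [IsScalarTower K L M]
    [Algebra k₀ M] [Algebra k M] [IsScalarTower k₀ K L] [IsScalarTower k K L]
    [IsScalarTower k₀ K M] [IsScalarTower k K M] [IsScalarTower k₀ L M] [IsScalarTower k L M]

/-- Base change of the differentials along the extension. -/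
noncomputable def ext : M ⊗[K] Ω[K⁄k₀] →ₗ[M] M ⊗[L] Ω[L⁄k₀] :=
  LinearMap.liftBaseChange M (((TensorProduct.mk L M Ω[L⁄k₀] 1).restrictScalars K).comp (KaehlerDifferential.map k₀ k₀ K L))

omit [Algebra k₀ M] [IsScalarTower k₀ K M] [IsScalarTower k₀ L M] in
theorem ext_tmul (m : M) (ω : Ω[K⁄k₀]) :
    ext k₀ K L M (m ⊗ₜ ω) = m ⊗ₜ KaehlerDifferential.map k₀ k₀ K L ω := by
  rw [ext, LinearMap.liftBaseChange_tmul, LinearMap.comp_apply]
  simp [smul_tmul']

theorem mapBaseChange_ext (z : M ⊗[K] Ω[K⁄k₀]) :
    mapBaseChange k₀ L M (ext k₀ K L M z) = mapBaseChange k₀ K M z := by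
  induction z using TensorProduct.induction_on with
  | zero => simp
  | add _ _ hx hy => rw [map_add, map_add, map_add, hx, hy]
  | tmul l ω =>
    rw [ext_tmul, mapBaseChange_tmul, mapBaseChange_tmul]
    congr 1
    have hω : ω ∈ Submodule.span K (Set.range (D k₀ K)) := by rw [span_range_derivation]; trivial
    induction hω using Submodule.span_induction with
    | mem y hy => obtain ⟨x, rfl⟩ := hy; rw [map_D, map_D, map_D, ← IsScalarTower.algebraMap_apply]
    | zero => simp
    | add _ _ _ _ hx hy => rw [map_add, map_add, map_add, hx, hy]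
    | smul c y _ hy =>
      simp only [map_smul]
      rw [← algebraMap_smul L c (KaehlerDifferential.map k₀ k₀ K L y), map_smul, hy, algebraMap_smul]

omit [Algebra k₀ M] [IsScalarTower k₀ K M] [IsScalarTower k₀ L M] [Algebra k M] [IsScalarTower k K M]
  [IsScalarTower k L M] in
theorem ext_bc (z : M ⊗[K] Ω[K⁄k₀]) :
    ext k K L M (bc k₀ k K M z) = bc k₀ k L M (ext k₀ K L M z) := by
  induction z using TensorProduct.induction_on with
  | zero => simp
  | add _ _ hx hy => rw [map_add, map_add, map_add, map_add, hx, hy]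
  | tmul l ω =>
    rw [ext_tmul, LinearMap.baseChange_tmul, LinearMap.baseChange_tmul, ext_tmul]
    congr 1
    have hω : ω ∈ Submodule.span K (Set.range (D k₀ K)) := by rw [span_range_derivation]; trivial
    induction hω using Submodule.span_induction with
    | mem y hy => obtain ⟨x, rfl⟩ := hy; rw [map_D, map_D, map_D, map_D]; rfl
    | zero => simp
    | add _ _ _ _ hx hy => rw [map_add, map_add, map_add, map_add, hx, hy]
    | smul c y _ hy =>
      simp only [map_smul]
      simp only [← algebraMap_smul L c, map_smul, hy]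

theorem exists_preimage (w : M ⊗[L] Ω[L⁄k₀]) (hw : w ∈ EGA41.imperfection k₀ L M) (hw0 : bc k₀ k L M w = 0) :
    ∃ z : M ⊗[K] Ω[K⁄k₀], z ∈ EGA41.imperfection k₀ K M ∧ bc k₀ k K M z = 0 ∧ ext k₀ K L M z = w := by
  have h := ker_baseChange_map_le_span k₀ k L M hw0
  have h3 : w ∈ (Submodule.span M (Set.range fun x : k => (1 : M) ⊗ₜ[K] D k₀ K (algebraMap k K x))).map
      (ext k₀ K L M) := by
    rw [Submodule.map_span, ← Set.range_comp]
    refine Submodule.span_mono (le_of_eq (congrArg Set.range (funext fun x => ?_))) h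
    simp [ext_tmul, map_D, ← IsScalarTower.algebraMap_apply]
  obtain ⟨z, hz, hzw⟩ := h3
  refine ⟨z, ?_, baseChange_map_eq_zero_of_mem_span k₀ k K M hz, hzw⟩
  show mapBaseChange k₀ K M z = 0
  rw [← mapBaseChange_ext k₀ K L M, hzw]
  exact hw

theorem rank_tower :
    Module.rank M ↥(EGA41.imperfection k₀ K M ⊓ LinearMap.ker (bc k₀ k K M)) =
      Module.rank M ↥(EGA41.imperfection k₀ L M ⊓ LinearMap.ker (bc k₀ k L M)) +
        Module.rank L ↥(EGA41.imperfection k₀ K L ⊓ LinearMap.ker (bc k₀ k K L)) := by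
  let g : ↥(EGA41.imperfection k₀ K M ⊓ LinearMap.ker (bc k₀ k K M)) →ₗ[M]
      ↥(EGA41.imperfection k₀ L M ⊓ LinearMap.ker (bc k₀ k L M)) :=
    LinearMap.codRestrict _ ((ext k₀ K L M).comp (Submodule.subtype _)) fun z =>
      ⟨show mapBaseChange k₀ L M (ext k₀ K L M z.1) = 0 from (mapBaseChange_ext k₀ K L M z.1).trans z.2.1,
        show bc k₀ k L M (ext k₀ K L M z.1) = 0 by
          rw [← ext_bc, show bc k₀ k K M z.1 = 0 from z.2.2, map_zero]⟩
  have hsurj : Function.Surjective g := fun w => by
    obtain ⟨z, hz, hz'', hzw⟩ := exists_preimage k₀ k K L M w.1 w.2.1 w.2.2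
    exact ⟨⟨z, hz, hz''⟩, Subtype.ext hzw⟩
  let N := EGA41.imperfection k₀ K L ⊓ LinearMap.ker (bc k₀ k K L)
  let c : ∀ (V : Type w) [AddCommGroup V] [Module K V], M ⊗[L] (L ⊗[K] V) ≃ₗ[M] M ⊗[K] V :=
    fun V _ _ => AlgebraTensorModule.cancelBaseChange K L M M V
  have hext : ∀ z, ext k₀ K L M (c _ z) = (mapBaseChange k₀ K L).lTensor M z := fun z => by
    induction z using TensorProduct.induction_on with
    | zero => simp
    | add _ _ hx hy => rw [map_add, map_add, map_add, hx, hy]
    | tmul m t =>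
      induction t using TensorProduct.induction_on with
      | zero => simp
      | add _ _ hx hy => rw [tmul_add, map_add, map_add, map_add, hx, hy]
      | tmul l ω =>
        rw [AlgebraTensorModule.cancelBaseChange_tmul, ext_tmul, LinearMap.lTensor_tmul, mapBaseChange_tmul, tmul_smul,
          smul_tmul']
  have hbc : ∀ z, bc k₀ k K M (c _ z) = c _ ((bc k₀ k K L).lTensor M z) := fun z => by
    induction z using TensorProduct.induction_on with
    | zero => simp
    | add _ _ hx hy => simp only [map_add, hx, hy]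
    | tmul m t =>
      induction t using TensorProduct.induction_on with
      | zero => simp
      | add _ _ hx hy => simp only [tmul_add, map_add, hx, hy]
      | tmul l ω =>
        rw [LinearMap.lTensor_tmul, LinearMap.baseChange_tmul, AlgebraTensorModule.cancelBaseChange_tmul,
          AlgebraTensorModule.cancelBaseChange_tmul, LinearMap.baseChange_tmul]
  let Φ : M ⊗[L] N →ₗ[M] M ⊗[K] Ω[K⁄k₀] := (c _).toLinearMap.comp (N.subtype.baseChange M)
  have hΦ : Function.Injective Φ := (c _).injective.comp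
    (Module.Flat.lTensor_preserves_injective_linearMap _ N.injective_subtype)
  let h : L ⊗[K] Ω[K⁄k₀] →ₗ[L] Ω[L⁄k₀] × (L ⊗[K] Ω[K⁄k]) := (mapBaseChange k₀ K L).prod (bc k₀ k K L)
  have hexN : Function.Exact N.subtype h := fun x => by
    constructor
    · intro hx
      exact ⟨⟨x, (Prod.mk.inj hx).1, (Prod.mk.inj hx).2⟩, rfl⟩
    · rintro ⟨y, rfl⟩
      exact Prod.ext y.2.1 y.2.2
  have hrange : ∀ z : M ⊗[K] Ω[K⁄k₀], (z ∈ LinearMap.range Φ) ↔ ext k₀ K L M z = 0 ∧ bc k₀ k K M z = 0 := fun z => by
    obtain ⟨z, rfl⟩ := (c _).surjective z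
    rw [hext, hbc, LinearEquiv.map_eq_zero_iff]
    have h2 : (z ∈ LinearMap.range (N.subtype.lTensor M)) ↔
        (mapBaseChange k₀ K L).lTensor M z = 0 ∧ (bc k₀ k K L).lTensor M z = 0 := by
      rw [LinearMap.mem_range, ← Set.mem_range, ← ((Module.Flat.lTensor_exact (R := L) M (N := ↥N) (N' := L ⊗[K] Ω[K⁄k₀]) (N'' := Ω[L⁄k₀] × (L ⊗[K] Ω[K⁄k])) hexN) z)]
      constructor
      · intro hz
        have h1 := congrArg ((LinearMap.fst L _ _).lTensor M) hz
        have h2 := congrArg ((LinearMap.snd L _ _).lTensor M) hz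
        rw [map_zero, ← LinearMap.lTensor_comp_apply] at h1 h2
        exact ⟨h1, h2⟩
      · intro hz
        have hh : h = (LinearMap.inl L _ _).comp (mapBaseChange k₀ K L) + (LinearMap.inr L _ _).comp (bc k₀ k K L) :=
          LinearMap.ext fun x => by simp [h]
        rw [hh, LinearMap.lTensor_add, LinearMap.add_apply, LinearMap.lTensor_comp_apply, LinearMap.lTensor_comp_apply,
          hz.1, hz.2, map_zero, map_zero, add_zero]
    rw [← h2]
    constructor
    · rintro ⟨y, hy⟩
      exact ⟨y, (c _).injective hy⟩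
    · rintro ⟨y, hy⟩
      exact ⟨y, congrArg (c _) hy⟩
  have hΦmem : ∀ y, Φ y ∈ EGA41.imperfection k₀ K M ⊓ LinearMap.ker (bc k₀ k K M) := fun y => by
    obtain ⟨h1, h2⟩ := (hrange _).1 ⟨y, rfl⟩
    refine ⟨?_, h2⟩
    show mapBaseChange k₀ K M (Φ y) = 0
    rw [← mapBaseChange_ext k₀ K L M, h1, map_zero]
  let e : M ⊗[L] N ≃ₗ[M] LinearMap.ker g :=
    LinearEquiv.ofBijective (LinearMap.codRestrict _ (LinearMap.codRestrict _ Φ hΦmem) fun y =>
      (Subtype.ext ((hrange _).1 ⟨y, rfl⟩).1 : g ⟨Φ y, hΦmem y⟩ = 0))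
    ⟨fun a b hab => hΦ (congrArg (fun z => z.1.1) hab), fun z => by
      obtain ⟨y, hy⟩ := (hrange z.1.1).2 ⟨congrArg Subtype.val (z.2 : g z.1 = 0), z.1.2.2⟩
      exact ⟨y, Subtype.ext (Subtype.ext hy)⟩⟩
  rw [rank_eq_add_of_surjective (U := ↥(EGA41.imperfection k₀ K M ⊓ LinearMap.ker (bc k₀ k K M)))
    (V := ↥(EGA41.imperfection k₀ L M ⊓ LinearMap.ker (bc k₀ k L M))) g hsurj]
  refine congrArg _ (e.rank_eq.symm.trans ?_)
  haveI : Module.Free L N := Module.Free.of_divisionRing L N
  rw [Module.rank_baseChange, Cardinal.lift_id]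

end Extensions

end Groth.Agent.Imperf4
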