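import Groth.Agent.Lib.Imperf4.PIndep
import Groth.Agent.Lib.Imperf4.Span
import Groth.Agent.Lib.Imperf4.Tower
import Mathlib.RingTheory.Extension.Cotangent.Basic
import Mathlib.RingTheory.Kaehler.JacobiZariski
import Mathlib.FieldTheory.IsAlgClosed.AlgebraicClosure

/-! # Admissibility criteria for directed families of subfields -/

set_option autoImplicit false
set_option linter.style.haveILetI false
universe u

namespace Groth.Agent.Imperf4

open TensorProduct KaehlerDifferential PBasis

/-- Imperfection modules of finite extensions are finite. -/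
theorem finite_imperfection_of_finite {k₀ K L : Type u} [Field k₀] [Field K] [Field L] [Algebra k₀ K] [Algebra k₀ L]
    [Algebra K L] [IsScalarTower k₀ K L] [FiniteDimensional K L] : Module.Finite L (EGA41.imperfection k₀ K L) := by
  haveI : Algebra.FinitePresentation K L := Algebra.FinitePresentation.of_finiteType.1 inferInstance
  haveI : Module.Finite L (Algebra.H1Cotangent K L) := inferInstance
  have h : EGA41.imperfection k₀ K L = LinearMap.range (Algebra.H1Cotangent.δ k₀ K L) :=
    (Algebra.H1Cotangent.exact_δ_mapBaseChange k₀ K L).linearMap_ker_eq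
  rw [h]
  infer_instance

/-- Finiteness of imperfection modules in a tower. -/
theorem finite_imperfection_tower {k₀ K L M : Type u} [Field k₀] [Field K] [Field L] [Field M] [Algebra k₀ K]
    [Algebra k₀ L] [Algebra k₀ M] [Algebra K L] [Algebra K M] [Algebra L M] [IsScalarTower K L M]
    [IsScalarTower k₀ K L] [IsScalarTower k₀ K M] [IsScalarTower k₀ L M]
    [Module.Finite L (EGA41.imperfection k₀ K L)] [Module.Finite M (EGA41.imperfection k₀ L M)] :
    Module.Finite M (EGA41.imperfection k₀ K M) := by
  let c : M ⊗[L] (L ⊗[K] Ω[K⁄k₀]) ≃ₗ[M] M ⊗[K] Ω[K⁄k₀] := AlgebraTensorModule.cancelBaseChange K L M M _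
  have hc : ∀ z, ext k₀ K L M (c z) = (mapBaseChange k₀ K L).lTensor M z := fun z => by
    induction z using TensorProduct.induction_on with
    | zero => simp
    | add _ _ hx hy => rw [map_add, map_add, map_add, hx, hy]
    | tmul m t =>
      induction t using TensorProduct.induction_on with
      | zero => simp
      | add _ _ hx hy => rw [tmul_add, map_add, map_add, map_add, hx, hy]
      | tmul l ω =>
        rw [AlgebraTensorModule.cancelBaseChange_tmul, ext_tmul, LinearMap.lTensor_tmul, mapBaseChange_tmul, tmul_smul,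
          smul_tmul']
  let Φ : M ⊗[L] EGA41.imperfection k₀ K L →ₗ[M] M ⊗[K] Ω[K⁄k₀] :=
    c.toLinearMap.comp ((EGA41.imperfection k₀ K L).subtype.baseChange M)
  refine Module.Finite.iff_fg.2 (Submodule.fg_of_fg_map_of_fg_inf_ker (ext k₀ K L M) ?_ ?_)
  · haveI : FiniteDimensional M ↥(EGA41.imperfection k₀ L M) := ‹Module.Finite M (EGA41.imperfection k₀ L M)›
    haveI := Submodule.finiteDimensional_of_le (K := M) (V := M ⊗[L] Ω[L⁄k₀])
      (show (EGA41.imperfection k₀ K M).map (ext k₀ K L M) ≤ EGA41.imperfection k₀ L M by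
        rintro _ ⟨z, hz, rfl⟩
        exact (mapBaseChange_ext k₀ K L M z).trans hz)
    exact Module.Finite.iff_fg.1 inferInstance
  · haveI : FiniteDimensional M ↥(LinearMap.range Φ) := Module.Finite.range Φ
    haveI := Submodule.finiteDimensional_of_le (K := M) (V := M ⊗[K] Ω[K⁄k₀])
      (show EGA41.imperfection k₀ K M ⊓ LinearMap.ker (ext k₀ K L M) ≤ LinearMap.range Φ from fun z hz => by
        obtain ⟨w, rfl⟩ := c.surjective z
        have h0 : ext k₀ K L M (c w) = 0 := hz.2
        rw [hc] at h0
        obtain ⟨v, hv⟩ := ((Module.Flat.lTensor_exact (R := L) M (N := ↥(EGA41.imperfection k₀ K L))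
          (f := (EGA41.imperfection k₀ K L).subtype) (g := mapBaseChange k₀ K L) (LinearMap.exact_subtype_ker_map _)) w).1 h0
        exact ⟨v, congrArg c hv⟩)
    exact Module.Finite.iff_fg.1 inferInstance

variable {k₀ K : Type u} [Field k₀] [Field K] [Algebra k₀ K] (p : ℕ) [Fact p.Prime] [CharP K p]
  {ι : Type u} [Preorder ι] [IsDirected ι (· ≤ ·)] [Nonempty ι] (k : ι → IntermediateField k₀ K)

/-- A finite imperfection module has an admissible member in the family. -/
theorem exists_admissible (hk : Antitone k)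
    (hinter : (⨅ i, k i ⊔ IntermediateField.adjoin k₀ (Set.range fun y : K => y ^ p)) =
      IntermediateField.adjoin k₀ (Set.range fun y : K => y ^ p))
    {L : Type u} [Field L] [Algebra K L] (V : Submodule L (L ⊗[K] Ω[K⁄k₀])) [Module.Finite L V] :
    ∃ i, ∀ ω ∈ V, (KaehlerDifferential.map k₀ (k i) K K).baseChange L ω = 0 → ω = 0 := by
  obtain ⟨m, x, hx, hV⟩ := exists_fin_span V
  obtain ⟨i, hi⟩ := exists_linearIndependent_D p k hk hinter x hx
  exact ⟨i, fun ω hω h0 => eq_zero_of_linearIndependent x hi (hV hω) h0⟩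

omit [Fact p.Prime] [CharP K p] [IsDirected ι (· ≤ ·)] [Nonempty ι] in
theorem D_eq_zero_of_tmul {L : Type u} [Field L] [Algebra K L] {x : K}
    (h : (1 : L) ⊗ₜ[K] D k₀ K x = 0) : D k₀ K x = 0 := by
  by_contra hne
  have hli : LinearIndependent K fun _ : Unit => D k₀ K x := LinearIndependent.of_subsingleton () hne
  exact (linearIndependent_one_tmul (L := L) hli).ne_zero () h

omit [IsDirected ι (· ≤ ·)] [Nonempty ι] in
/-- Elements of the intersection whose differential vanishes on a radical extension are in the base. -/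
theorem exists_radical (x : K) : ∃ (L : Type u) (_ : Field L) (_ : Algebra K L),
    FiniteDimensional K L ∧ ∃ y : L, y ^ p = algebraMap K L x := by
  obtain ⟨y, hy⟩ := IsAlgClosed.exists_pow_nat_eq (algebraMap K (AlgebraicClosure K) x) (Fact.out : p.Prime).pos
  exact ⟨IntermediateField.adjoin K {y}, inferInstance, inferInstance,
    IntermediateField.adjoin.finiteDimensional (Algebra.IsIntegral.isIntegral y),
    ⟨y, IntermediateField.mem_adjoin_simple_self K y⟩, Subtype.ext hy⟩

omit [IsDirected ι (· ≤ ·)] [Nonempty ι] in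
theorem mem_imperfection_radical {L : Type u} [Field L] [Algebra k₀ L] [Algebra K L] [IsScalarTower k₀ K L] {x : K}
    {y : L} (hy : y ^ p = algebraMap K L x) : (1 : L) ⊗ₜ[K] D k₀ K x ∈ EGA41.imperfection k₀ K L := by
  haveI : CharP L p := charP_of_injective_algebraMap (algebraMap K L).injective p
  show mapBaseChange k₀ K L _ = 0
  rw [mapBaseChange_tmul, map_D, ← hy, Derivation.leibniz_pow, ← Nat.cast_smul_eq_nsmul L, CharP.cast_eq_zero,
    zero_smul, smul_zero]

omit [IsDirected ι (· ≤ ·)] [Nonempty ι] in
theorem D_eq_zero_of_mem_sup (i : ι) {L : Type u} [Field L] [Algebra k₀ L] [Algebra K L] [IsScalarTower k₀ K L]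
    [CharP L p] {x : L}
    (hx : x ∈ (k i).map (IsScalarTower.toAlgHom k₀ K L) ⊔ IntermediateField.adjoin k₀ (Set.range fun y : L => y ^ p)) :
    D (k i) L x = 0 := by
  refine (D_eq_zero_iff p x).2 ?_
  let F : IntermediateField k₀ L :=
    { pField p (k i) L with
      algebraMap_mem' := fun r => by
        rw [IsScalarTower.algebraMap_apply k₀ (k i) L]
        exact (EGA41.pPowerSubalgebra p (k i) L).algebraMap_mem _ }
  refine (sup_le ?_ (IntermediateField.adjoin_le_iff.2 ?_) : _ ≤ F) hx
  · rintro _ ⟨z, hz, rfl⟩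
    show algebraMap K L z ∈ EGA41.pPowerSubalgebra p (k i) L
    rw [show algebraMap K L z = algebraMap (k i) L ⟨z, hz⟩ from (IsScalarTower.algebraMap_apply (k i) K L ⟨z, hz⟩).symm]
    exact (EGA41.pPowerSubalgebra p (k i) L).algebraMap_mem _
  · rintro _ ⟨y, rfl⟩
    exact pow_mem_pField p (k i) L y

/-- The intersection is right when finite imperfection modules have admissible members. -/
theorem inter_eq_of_admissible
    (h : ∀ (L : Type u) [Field L] [Algebra K L] [Algebra k₀ L] [IsScalarTower k₀ K L],
      Module.Finite L (EGA41.imperfection k₀ K L) →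
        ∃ i, ∀ ω ∈ EGA41.imperfection k₀ K L, (KaehlerDifferential.map k₀ (k i) K K).baseChange L ω = 0 → ω = 0) :
    (⨅ i, k i ⊔ IntermediateField.adjoin k₀ (Set.range fun y : K => y ^ p)) =
      IntermediateField.adjoin k₀ (Set.range fun y : K => y ^ p) := by
  refine le_antisymm (fun x hx => ?_) (le_iInf fun i => le_sup_right)
  obtain ⟨L, _, _, hfin, y, hy⟩ := exists_radical p x
  letI : Algebra k₀ L := ((algebraMap K L).comp (algebraMap k₀ K)).toAlgebra
  haveI : IsScalarTower k₀ K L := .of_algebraMap_eq fun _ => rfl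
  obtain ⟨i, hi⟩ := h L finite_imperfection_of_finite
  rw [← SetLike.mem_coe, IntermediateField.coe_iInf, Set.mem_iInter] at hx
  have h0 : D (k i) K x = 0 := (D_eq_zero_iff p x).2 ((mem_pField_iff p (k i) x).2 (hx i))
  refine (mem_pField_base_iff p x).1 ((D_eq_zero_iff p x).1 (D_eq_zero_of_tmul (L := L)
    (hi _ (mem_imperfection_radical p hy) ?_)))
  rw [LinearMap.baseChange_tmul, map_D, Algebra.algebraMap_self, RingHom.id_apply, h0, tmul_zero]

/-- Extensions with finite imperfection keep the right intersection. -/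
theorem inter_eq_of_extension (hk : Antitone k)
    (hinter : (⨅ i, k i ⊔ IntermediateField.adjoin k₀ (Set.range fun y : K => y ^ p)) =
      IntermediateField.adjoin k₀ (Set.range fun y : K => y ^ p))
    {L : Type u} [Field L] [Algebra K L] [Algebra k₀ L] [IsScalarTower k₀ K L] [CharP L p]
    [Module.Finite L (EGA41.imperfection k₀ K L)] :
    (⨅ i, (k i).map (IsScalarTower.toAlgHom k₀ K L) ⊔ IntermediateField.adjoin k₀ (Set.range fun y : L => y ^ p)) =
      IntermediateField.adjoin k₀ (Set.range fun y : L => y ^ p) := by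
  refine le_antisymm (fun x hx => ?_) (le_iInf fun i => le_sup_right)
  obtain ⟨M, _, _, hfin, y, hy⟩ := exists_radical p x
  letI : Algebra k₀ M := ((algebraMap L M).comp (algebraMap k₀ L)).toAlgebra
  haveI : IsScalarTower k₀ L M := .of_algebraMap_eq fun _ => rfl
  letI : Algebra K M := ((algebraMap L M).comp (algebraMap K L)).toAlgebra
  haveI : IsScalarTower K L M := .of_algebraMap_eq fun _ => rfl
  haveI : IsScalarTower k₀ K M := .of_algebraMap_eq fun r => by
    show algebraMap L M (algebraMap k₀ L r) = algebraMap L M (algebraMap K L (algebraMap k₀ K r))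
    rw [← IsScalarTower.algebraMap_apply k₀ K L]
  haveI : Module.Finite M (EGA41.imperfection k₀ L M) := finite_imperfection_of_finite
  haveI : Module.Finite M (EGA41.imperfection k₀ K M) := finite_imperfection_tower (L := L)
  obtain ⟨i, hi⟩ := exists_admissible p k hk hinter (EGA41.imperfection k₀ K M)
  haveI : IsScalarTower k₀ (k i) L := .of_algebraMap_eq fun r => IsScalarTower.algebraMap_apply k₀ K L r
  haveI : IsScalarTower (k i) L M := .of_algebraMap_eq fun _ => rfl
  rw [← SetLike.mem_coe, IntermediateField.coe_iInf, Set.mem_iInter] at hx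
  have h0 : D (k i) L x = 0 := D_eq_zero_of_mem_sup p k i (hx i)
  obtain ⟨z, hz, hz0, hzw⟩ := exists_preimage k₀ (k i) K L M ((1 : M) ⊗ₜ[L] D k₀ L x) (mem_imperfection_radical p hy)
    (by rw [LinearMap.baseChange_tmul, map_D, Algebra.algebraMap_self, RingHom.id_apply, h0, tmul_zero])
  rw [hi z hz hz0, map_zero] at hzw
  exact (mem_pField_base_iff p x).1 ((D_eq_zero_iff p x).1 (D_eq_zero_of_tmul (L := M) hzw.symm))

/-- A cofinite admissible subfield exists. -/
theorem exists_admissible_cofinite {L : Type u} [Field L] [Algebra K L] (V : Submodule L (L ⊗[K] Ω[K⁄k₀]))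
    [Module.Finite L V] :
    ∃ k : IntermediateField k₀ K, (∀ y : K, y ^ p ∈ k) ∧ Module.Finite k K ∧
      ∀ ω ∈ V, (KaehlerDifferential.map k₀ k K K).baseChange L ω = 0 → ω = 0 := by
  classical
  obtain ⟨m, x, hx, hV⟩ := exists_fin_span V
  have hxi : Function.Injective x := fun a b h => hx.injective (by simp [h])
  have h0 : LinearIndepOn K (fun z : K => D k₀ K z) (Set.range x) := (linearIndepOn_range_iff hxi _).2 hx
  let B := h0.extend (Set.subset_univ _)
  have hB : LinearIndependent K fun b : B => D k₀ K (b : K) := h0.linearIndepOn_extend (Set.subset_univ _)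
  have hsep := (isPIndependent_iff_notMem p _).1 ((isPIndependent_iff p _).2 hB)
  let T : Set K := B \ Set.range x
  let k' := IntermediateField.adjoin k₀ ((Set.range fun y : K => y ^ p) ∪ T)
  have hk' : ∀ z, z ∈ k' ↔ z ∈ adjS (pField p k₀ K) T := fun z => by rw [← adjoin_pow_toSubfield p (k := k₀) T]; rfl
  have hpk : ∀ y : K, y ^ p ∈ k' := fun y => IntermediateField.subset_adjoin k₀ _ (Or.inl ⟨y, rfl⟩)
  have hgen : ∀ z : K, z ∈ Algebra.adjoin (pField p k₀ K) B := fun z => by
    refine (adjS_eq_adjoin p _ (pow_mem_pField p k₀ K) B z).1 ?_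
    have hspan : Submodule.span K (Set.range fun b : B => D k₀ K (b : K)) = ⊤ := by
      refine eq_top_iff.2 ?_
      rw [← span_range_derivation, Submodule.span_le, ← Set.image_univ,
        show (Set.range fun b : B => D k₀ K (b : K)) = D k₀ K '' B by rw [Set.image_eq_range]]
      exact h0.image_subset_span_image_extend (Set.subset_univ _)
    obtain ⟨e, he⟩ := exists_equiv_pField p k₀ K
    have h1 : Submodule.span K (D (pField p k₀ K) K '' B) = ⊤ := by
      have h2 := congrArg (Submodule.map e.toLinearMap) hspan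
      rw [Submodule.map_span, ← Set.range_comp, Submodule.map_top, LinearMap.range_eq_top.mpr e.surjective] at h2
      rw [Set.image_eq_range]
      exact (congrArg (fun f => Submodule.span K (Set.range f)) (funext fun b : B => (he (b : K)).symm)).trans h2
    exact (span_D_eq_top_iff p _ (pow_mem_pField p k₀ K) B).1 h1 ▸ Subfield.mem_top z
  refine ⟨k', hpk, ?_, fun ω hω h1 => eq_zero_of_linearIndependent x ?_ (hV hω) h1⟩
  · have htop : Algebra.adjoin k' (Set.range x) = ⊤ := by
      refine eq_top_iff.mpr fun z _ => ?_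
      induction hgen z using Algebra.adjoin_induction with
      | mem w hw =>
        by_cases h : w ∈ Set.range x
        · exact Algebra.subset_adjoin h
        · exact Subalgebra.algebraMap_mem _ (⟨w, (hk' w).2 (subset_adjS _ _ ⟨hw, h⟩)⟩ : k')
      | algebraMap r => exact Subalgebra.algebraMap_mem _ (⟨r, (hk' r).2 (le_adjS _ _ r.2)⟩ : k')
      | add y w _ _ hy hw => exact add_mem (hy trivial) (hw trivial)
      | mul y w _ _ hy hw => exact mul_mem (hy trivial) (hw trivial)
    refine ⟨?_⟩
    rw [← Algebra.top_toSubmodule, ← htop]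
    exact fg_adjoin_of_finite (Set.finite_range x) fun z _ => KaehlerSubfield.isIntegral p k'.toSubfield hpk z
  · let x' : ULift.{u} (Fin m) → K := fun j => x j.down
    have h2 : LinearIndependent K fun j => D k' K (x' j) := by
      refine (isPIndependent_iff p x').1 ((isPIndependent_iff_notMem p x').2 fun a ha => ?_)
      have hxB : ∀ j, x j ∈ B := fun j => h0.subset_extend _ ⟨j, rfl⟩
      refine hsep ⟨x a.down, hxB _⟩ ?_
      refine (adjS_le (fun z hz => ?_) ?_) ha
      · have hle : pField p k' K ≤ adjS (pField p k₀ K) T := fun w hw => by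
          change w ∈ EGA41.pPowerSubalgebra p k' K at hw
          induction hw using Algebra.adjoin_induction with
          | mem y hy => obtain ⟨c, rfl⟩ := hy; exact le_adjS _ _ (pow_mem_pField p k₀ K c)
          | algebraMap r => exact (hk' r).1 r.2
          | add u v _ _ hu hv => exact add_mem hu hv
          | mul u v _ _ hu hv => exact mul_mem hu hv
        refine (adjS_le (le_adjS _ _) ?_) (hle hz)
        intro t ht
        exact subset_adjS _ _ ⟨⟨t, ht.1⟩, fun e => ht.2 ⟨a.down, (congrArg Subtype.val e).symm⟩, rfl⟩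
      · rintro _ ⟨b, hb, rfl⟩
        exact subset_adjS _ _ ⟨⟨x b.down, hxB _⟩, fun e => hb (ULift.ext _ _ (hxi (congrArg Subtype.val e))), rfl⟩
    exact h2.comp ULift.up ULift.up_injective

end Groth.Agent.Imperf4
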