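import Groth.Prelude.Def_EGA41
import Mathlib.RingTheory.Kaehler.Basic
import Mathlib.LinearAlgebra.TensorProduct.RightExactness

/-! # Kernels of base-changed maps of differentials -/

set_option autoImplicit false
set_option linter.style.haveILetI false
universe u v w

namespace Groth.Agent.Imperf4

open TensorProduct KaehlerDifferential

variable (k₀ : Type u) (k : Type v) (K L : Type w) [CommRing k₀] [CommRing k] [CommRing K] [CommRing L]
  [Algebra k₀ k] [Algebra k₀ K] [Algebra k K] [IsScalarTower k₀ k K]

theorem ker_map_le_span :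
    LinearMap.ker (KaehlerDifferential.map k₀ k K K) ≤
      Submodule.span K (Set.range fun x : k => D k₀ K (algebraMap k K x)) := by
  rw [← range_mapBaseChange]
  rintro _ ⟨z, rfl⟩
  induction z using TensorProduct.induction_on with
  | zero => simp
  | add _ _ hx hy => rw [map_add]; exact add_mem hx hy
  | tmul r ω =>
    rw [mapBaseChange_tmul]
    refine Submodule.smul_mem _ r ?_
    have hω : ω ∈ Submodule.span k (Set.range (D k₀ k)) := by rw [span_range_derivation]; trivial
    induction hω using Submodule.span_induction with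
    | mem y hy =>
      obtain ⟨x, rfl⟩ := hy
      rw [map_D]
      exact Submodule.subset_span ⟨x, rfl⟩
    | zero => simp
    | add _ _ _ _ hx hy => rw [map_add]; exact add_mem hx hy
    | smul c y _ hy => rw [map_smul, ← algebraMap_smul K c]; exact Submodule.smul_mem _ _ hy

theorem map_D_eq_zero (x : k) : KaehlerDifferential.map k₀ k K K (D k₀ K (algebraMap k K x)) = 0 := by
  rw [map_D]
  exact Derivation.map_algebraMap _ _

variable [Algebra K L]

theorem ker_baseChange_map_le_span :
    LinearMap.ker ((KaehlerDifferential.map k₀ k K K).baseChange L) ≤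
      Submodule.span L (Set.range fun x : k => (1 : L) ⊗ₜ[K] D k₀ K (algebraMap k K x)) := by
  intro z hz
  have hex : Function.Exact (mapBaseChange k₀ k K) (KaehlerDifferential.map k₀ k K K) := exact_mapBaseChange_map k₀ k K
  obtain ⟨y, rfl⟩ := (lTensor_exact L hex (KaehlerDifferential.map_surjective k₀ k K) z).1 hz
  clear hz
  induction y using TensorProduct.induction_on with
  | zero => simp
  | add _ _ hx hy => rw [map_add]; exact add_mem hx hy
  | tmul l t =>
    rw [LinearMap.lTensor_tmul]
    have ht : mapBaseChange k₀ k K t ∈ Submodule.span K (Set.range fun x : k => D k₀ K (algebraMap k K x)) :=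
      ker_map_le_span k₀ k K ((exact_mapBaseChange_map k₀ k K _).2 ⟨t, rfl⟩)
    generalize mapBaseChange k₀ k K t = w at ht
    induction ht using Submodule.span_induction with
    | mem y hy =>
      obtain ⟨x, rfl⟩ := hy
      rw [show l ⊗ₜ[K] D k₀ K (algebraMap k K x) = l • ((1 : L) ⊗ₜ[K] D k₀ K (algebraMap k K x)) by
        rw [smul_tmul', smul_eq_mul, mul_one]]
      exact Submodule.smul_mem _ _ (Submodule.subset_span ⟨x, rfl⟩)
    | zero => simp
    | add _ _ _ _ hx hy => rw [tmul_add]; exact add_mem hx hy
    | smul c y _ hy => rw [tmul_smul, ← algebraMap_smul L c]; exact Submodule.smul_mem _ _ hy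

theorem baseChange_map_eq_zero_of_mem_span {z : L ⊗[K] Ω[K⁄k₀]}
    (hz : z ∈ Submodule.span L (Set.range fun x : k => (1 : L) ⊗ₜ[K] D k₀ K (algebraMap k K x))) :
    (KaehlerDifferential.map k₀ k K K).baseChange L z = 0 := by
  induction hz using Submodule.span_induction with
  | mem y hy => obtain ⟨x, rfl⟩ := hy; rw [LinearMap.baseChange_tmul, map_D_eq_zero, tmul_zero]
  | zero => simp
  | add _ _ _ _ hx hy => rw [map_add, hx, hy, add_zero]
  | smul c y _ hy => rw [map_smul, hy, smul_zero]

end Groth.Agent.Imperf4
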