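import Groth.Agent.Lib.PBasis.Over
import Groth.Agent.Lib.PBasis.Basic
import Mathlib.Algebra.TrivSqZeroExt.Basic
import Mathlib.RingTheory.Kaehler.Basic
import Mathlib.Algebra.CharP.Frobenius
import Mathlib.LinearAlgebra.TensorProduct.Tower

/-! # Imperfection modules along `p`-bases -/

set_option autoImplicit false
set_option linter.style.haveILetI false
universe u

namespace Groth.Agent.Imperf4

open TensorProduct EGA41 TrivSqZeroExt

/-- A derivation extends along a `p`-basis with prescribed compatible values zero. -/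
theorem exists_derivation_of_pBasis (p : ℕ) [Fact p.Prime] {S Q B : Type u} [CommRing S] [CommRing Q] [CommRing B]
    [Algebra S Q] [Algebra S B] [Algebra Q B] [IsScalarTower S Q B] [CharP B p] {M : Type u} [AddCommGroup M]
    [Module B M] [Module Q M] [IsScalarTower Q B M] [Module S M] [IsScalarTower S B M]
    {ι : Type u} (x : ι → Q) (a : ι → S) (ha : ∀ i, x i ^ p = algebraMap S Q (a i))
    (hli : LinearIndependent S fun e : {e : ι →₀ ℕ // ∀ i, e i < p} => pMonomial x e.1)
    (hspan : Submodule.span S (Set.range fun e : {e : ι →₀ ℕ // ∀ i, e i < p} => pMonomial x e.1) = ⊤)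
    (d₀ : Derivation ℤ S M) (h₀ : ∀ i, d₀ (a i) = 0) :
    ∃ D : Derivation ℤ Q M, (∀ s, D (algebraMap S Q s) = d₀ s) ∧ ∀ i, D (x i) = 0 := by
  letI : Module Bᵐᵒᵖ M := Module.compHom M ((RingHom.id B).fromOpposite mul_comm)
  haveI : IsCentralScalar B M := ⟨fun _ _ => rfl⟩
  have hsm : ∀ (s : S) (m : M), algebraMap S B s • m = s • m := fun s m => algebraMap_smul B s m
  let θ : S →+* TrivSqZeroExt B M :=
    { toFun := fun s => inl (algebraMap S B s) + inr (d₀ s)
      map_one' := TrivSqZeroExt.ext (by simp) (by simp)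
      map_mul' := fun u v => TrivSqZeroExt.ext (by simp) (by simp [TrivSqZeroExt.snd_mul, op_smul_eq_smul, hsm])
      map_zero' := TrivSqZeroExt.ext (by simp) (by simp)
      map_add' := fun u v => TrivSqZeroExt.ext (by simp) (by simp) }
  letI : Algebra S (TrivSqZeroExt B M) := θ.toAlgebra
  have hθ : ∀ s, algebraMap S (TrivSqZeroExt B M) s = inl (algebraMap S B s) + inr (d₀ s) := fun s => rfl
  obtain ⟨φ, hφ, -⟩ := PBasis.existsUnique_lift p x a ha hli hspan (C := TrivSqZeroExt B M)
    (fun i => inl (algebraMap Q B (x i))) fun i => by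
      rw [TrivSqZeroExt.inl_pow, hθ, h₀, TrivSqZeroExt.inr_zero, add_zero, IsScalarTower.algebraMap_apply S Q B,
        ← map_pow, ha]
  have htop := PBasis.adjoin_eq_top_of_span p x (fun i => ⟨a i, (ha i).symm⟩) hspan
  let πS : TrivSqZeroExt B M →ₐ[S] B :=
    { (TrivSqZeroExt.fstHom B B M).toRingHom with
      commutes' := fun s => by
        show (inl (algebraMap S B s) + inr (d₀ s) : TrivSqZeroExt B M).fst = _
        simp }
  have hfst : πS.comp φ = IsScalarTower.toAlgHom S Q B := AlgHom.ext_of_adjoin_eq_top htop (by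
    rintro _ ⟨i, rfl⟩
    show (φ (x i)).fst = algebraMap Q B (x i)
    rw [hφ i, TrivSqZeroExt.fst_inl])
  have hf : ∀ q, (φ q).fst = algebraMap Q B q := fun q => AlgHom.congr_fun hfst q
  refine ⟨Derivation.mk' (AddMonoidHom.mk' (fun q => (φ q).snd) fun u v => by simp).toIntLinearMap
    (fun u v => ?_), fun s => ?_, fun i => ?_⟩
  · show (φ (u * v)).snd = u • (φ v).snd + v • (φ u).snd
    rw [map_mul, TrivSqZeroExt.snd_mul, op_smul_eq_smul, hf, hf, algebraMap_smul, algebraMap_smul]
  · show (φ (algebraMap S Q s)).snd = d₀ s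
    rw [φ.commutes, hθ]
    simp
  · show (φ (x i)).snd = 0
    rw [hφ i, TrivSqZeroExt.snd_inl]

variable (p : ℕ) [Fact p.Prime] {R A B : Type u} [CommRing R] [CommRing A] [CommRing B] [Algebra R A] [Algebra A B]
  [Algebra R B] [IsScalarTower R A B] [CharP B p]

/-- Derivations on the base dual to the `p`-th powers of a `p`-basis. -/
theorem exists_dual_derivation [IsReduced B] (hinj : Function.Injective (algebraMap A B))
    (hR : Set.range (algebraMap R B) = Set.range fun b : B => b ^ p) {Λ M : Type u} (x : Λ → B) (x' : Λ → A)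
    (hx' : ∀ i, algebraMap A B (x' i) = x i ^ p) (y : M → A) (hy : IsPBasis p R y)
    (dd : Derivation A B B) :
    ∃ δ : Derivation ℤ A B, ∀ i, δ (x' i) = (dd (x i)) ^ p := by
  classical
  haveI : ExpChar B p := ExpChar.prime Fact.out
  let S := pPowerSubalgebra p R A
  have hS : ∀ s : S, ∃ b : B, b ^ p = algebraMap A B s.1 := fun s => by
    obtain ⟨s, hs⟩ := s
    change s ∈ Algebra.adjoin R (Set.range fun a : A => a ^ p) at hs
    induction hs using Algebra.adjoin_induction with
    | mem w hw => obtain ⟨c, rfl⟩ := hw; exact ⟨algebraMap A B c, (map_pow _ _ _).symm⟩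
    | algebraMap r =>
      obtain ⟨b, hb⟩ := (hR ▸ ⟨r, rfl⟩ : algebraMap R B r ∈ Set.range fun b : B => b ^ p)
      refine ⟨b, ?_⟩
      show b ^ p = algebraMap A B (algebraMap R A r)
      rw [← IsScalarTower.algebraMap_apply]
      exact hb
    | add u v _ _ hu hv =>
      obtain ⟨a, ha⟩ := hu
      obtain ⟨b, hb⟩ := hv
      exact ⟨a + b, by rw [add_pow_char, ha, hb]; exact (map_add _ _ _).symm⟩
    | mul u v _ _ hu hv =>
      obtain ⟨a, ha⟩ := hu
      obtain ⟨b, hb⟩ := hv
      exact ⟨a * b, by rw [mul_pow, ha, hb]; exact (map_mul _ _ _).symm⟩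
  choose rt hrt using hS
  have huniq : ∀ (s : S) (b : B), b ^ p = algebraMap A B s.1 → rt s = b := fun s b h =>
    frobenius_inj B p (by rw [frobenius_def, frobenius_def, hrt, h])
  let d₀ : Derivation ℤ S B := Derivation.mk' (AddMonoidHom.mk' (fun s => (dd (rt s)) ^ p) fun u v => by
      rw [huniq (u + v) (rt u + rt v) (by rw [add_pow_char, hrt, hrt]; exact (map_add _ _ _).symm), map_add,
        add_pow_char]).toIntLinearMap fun u v => by
    show (dd (rt (u * v))) ^ p = u • (dd (rt v)) ^ p + v • (dd (rt u)) ^ p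
    rw [huniq (u * v) (rt u * rt v) (by rw [mul_pow, hrt, hrt]; exact (map_mul _ _ _).symm), dd.leibniz, add_pow_char,
      smul_eq_mul, smul_eq_mul, mul_pow, mul_pow, hrt, hrt, Algebra.smul_def, Algebra.smul_def]
    rfl
  let a : M → S := fun j => ⟨y j ^ p, Algebra.subset_adjoin ⟨y j, rfl⟩⟩
  obtain ⟨δ, hδ, -⟩ := exists_derivation_of_pBasis p (S := S) (Q := A) (B := B) y a (fun j => rfl) hy.1 hy.2 d₀
    fun j => by
      show (dd (rt (a j))) ^ p = 0
      rw [huniq (a j) (algebraMap A B (y j)) (map_pow _ _ _).symm, Derivation.map_algebraMap,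
        zero_pow (Fact.out : p.Prime).ne_zero]
  refine ⟨δ, fun i => ?_⟩
  obtain ⟨r, hr⟩ := (hR.symm ▸ ⟨x i, rfl⟩ : x i ^ p ∈ Set.range (algebraMap R B))
  have hx'r : x' i = algebraMap R A r := hinj (by rw [hx', ← IsScalarTower.algebraMap_apply, hr])
  have hmem : x' i ∈ S := hx'r ▸ S.algebraMap_mem r
  refine (hδ ⟨x' i, hmem⟩).trans ?_
  show (dd (rt ⟨x' i, hmem⟩)) ^ p = _
  rw [huniq ⟨x' i, hmem⟩ (x i) (hx' i).symm]

omit [Algebra R B] [IsScalarTower R A B] [Algebra R A] [CommRing R] in
/-- The imperfection module is spanned by the differentials of the `p`-th powers. -/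
theorem imperfection_eq_span (hinj : Function.Injective (algebraMap A B))
    (hpow : ∀ b : B, b ^ p ∈ Set.range (algebraMap A B)) {Λ : Type u} (x : Λ → B) (hx : IsPBasis p A x) (x' : Λ → A)
    (hx' : ∀ i, algebraMap A B (x' i) = x i ^ p) :
    imperfection ℤ A B = Submodule.span B (Set.range fun i => (1 : B) ⊗ₜ[A] KaehlerDifferential.D ℤ A (x' i)) := by
  classical
  let W : Submodule B (B ⊗[A] Ω[A⁄ℤ]) :=
    Submodule.span B (Set.range fun i => (1 : B) ⊗ₜ[A] KaehlerDifferential.D ℤ A (x' i))
  refine le_antisymm (fun z hz => ?_) (Submodule.span_le.2 ?_)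
  · let d₀ : Derivation ℤ A ((B ⊗[A] Ω[A⁄ℤ]) ⧸ W) :=
      ((W.mkQ.restrictScalars A).comp (TensorProduct.mk A B Ω[A⁄ℤ] 1)).compDer (KaehlerDifferential.D ℤ A)
    have hd₀ : ∀ a, d₀ a = W.mkQ (1 ⊗ₜ KaehlerDifferential.D ℤ A a) := fun a => rfl
    obtain ⟨D, hD, -⟩ := exists_derivation_of_pBasis p (S := A) (Q := B) (B := B) x x' (fun i => (hx' i).symm)
      (PBasis.linearIndependent_of_isPBasis p hinj x hx) (PBasis.span_of_isPBasis p hpow x hx.2) d₀
      fun i => by
        rw [hd₀, Submodule.mkQ_apply, Submodule.Quotient.mk_eq_zero]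
        exact Submodule.subset_span ⟨i, rfl⟩
    have hcomp : ∀ t, D.liftKaehlerDifferential (KaehlerDifferential.mapBaseChange ℤ A B t) = W.mkQ t := fun t => by
      induction t using TensorProduct.induction_on with
      | zero => simp
      | add _ _ hu hv => rw [map_add, map_add, map_add, hu, hv]
      | tmul b ω =>
        rw [KaehlerDifferential.mapBaseChange_tmul, map_smul,
          show b ⊗ₜ[A] ω = b • ((1 : B) ⊗ₜ[A] ω) by rw [smul_tmul', smul_eq_mul, mul_one], map_smul]
        congr 1
        have hω : ω ∈ Submodule.span A (Set.range (KaehlerDifferential.D ℤ A)) := by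
          rw [KaehlerDifferential.span_range_derivation]; trivial
        induction hω using Submodule.span_induction with
        | mem w hw =>
          obtain ⟨c, rfl⟩ := hw
          rw [KaehlerDifferential.map_D, Derivation.liftKaehlerDifferential_comp_D, hD, hd₀]
        | zero => simp
        | add _ _ _ _ hu hv => rw [map_add, map_add, tmul_add, map_add, hu, hv]
        | smul c w _ hw =>
          rw [map_smul, tmul_smul, ← algebraMap_smul B c, ← algebraMap_smul B c ((1 : B) ⊗ₜ[A] w), map_smul, map_smul, hw]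
    have h := hcomp z
    rw [show KaehlerDifferential.mapBaseChange ℤ A B z = 0 from hz, map_zero, eq_comm, Submodule.mkQ_apply,
      Submodule.Quotient.mk_eq_zero] at h
    exact h
  · rintro _ ⟨i, rfl⟩
    show KaehlerDifferential.mapBaseChange ℤ A B _ = 0
    rw [KaehlerDifferential.mapBaseChange_tmul, one_smul, KaehlerDifferential.map_D, hx', Derivation.leibniz_pow,
      ← Nat.cast_smul_eq_nsmul B, CharP.cast_eq_zero, zero_smul]

omit [Algebra R B] [IsScalarTower R A B] [Algebra R A] [CommRing R] in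
/-- Basis of the imperfection module from dual derivations. -/
theorem exists_basis_imperfection (hinj : Function.Injective (algebraMap A B))
    (hpow : ∀ b : B, b ^ p ∈ Set.range (algebraMap A B)) {Λ : Type u} (x : Λ → B) (hx : IsPBasis p A x) (x' : Λ → A)
    (hx' : ∀ i, algebraMap A B (x' i) = x i ^ p) [DecidableEq Λ] (δ : Λ → Derivation ℤ A B)
    (hδ : ∀ i j, δ i (x' j) = if i = j then 1 else 0) :
    ∃ b : Module.Basis Λ B (imperfection ℤ A B),
      ∀ i, (b i : B ⊗[A] Ω[A⁄ℤ]) = (1 : B) ⊗ₜ[A] KaehlerDifferential.D ℤ A (x' i) := by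
  have heq := imperfection_eq_span p hinj hpow x hx x' hx'
  have hli : LinearIndependent B fun i => (1 : B) ⊗ₜ[A] KaehlerDifferential.D ℤ A (x' i) := by
    rw [linearIndependent_iff']
    intro s c hc i hi
    have h := congrArg ((δ i).liftKaehlerDifferential.liftBaseChange B) hc
    simpa [map_sum, map_smul, hδ, hi] using h
  exact ⟨(Module.Basis.span hli).map (LinearEquiv.ofEq _ _ heq.symm), fun i => by
    simp [Module.Basis.span_apply]⟩

end Groth.Agent.Imperf4
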