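import Groth.Agent.Lib.Imperf4.Exact
import Groth.Agent.Lib.PBasis.Field
import Mathlib.LinearAlgebra.TensorProduct.Basis
import Mathlib.LinearAlgebra.LinearIndependent.Lemmas

/-! # Finite families of differentials and directed families of subfields -/

set_option autoImplicit false
set_option linter.style.haveILetI false
universe u

namespace Groth.Agent.Imperf4

open TensorProduct KaehlerDifferential PBasis EGA41

/-- Linear independence over a directed intersection appears at a finite stage. -/
theorem exists_linearIndependent_directed {E : Type u} [Field E] {ι : Type u} [Preorder ι] [IsDirected ι (· ≤ ·)]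
    [Nonempty ι] (F : ι → Subfield E) (E' : Subfield E) (hmono : Antitone F)
    (hinter : ∀ z, (∀ i, z ∈ F i) → z ∈ E') {M : Type u} [AddCommGroup M] [Module E M] :
    ∀ {n : ℕ} (v : Fin n → M), LinearIndependent E' v → ∃ i, ∀ j, i ≤ j → LinearIndependent (F j) v := by
  classical
  intro n
  induction n with
  | zero => exact fun v _ => ⟨Classical.arbitrary ι, fun j _ => linearIndependent_empty_type⟩
  | succ n ih =>
    intro v hv
    rw [linearIndependent_finSucc] at hv
    obtain ⟨i₀, hi₀⟩ := ih (Fin.tail v) hv.1
    by_contra hcon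
    push Not at hcon
    have hrel : ∀ j, i₀ ≤ j → ∃ c : Fin n → E, (∀ l, c l ∈ F j) ∧ ∑ l, c l • Fin.tail v l = v 0 := by
      intro j hj
      obtain ⟨j', hsub, hdep⟩ := hcon j
      rw [linearIndependent_finSucc, not_and_not_right] at hdep
      obtain ⟨c, hc⟩ := (Submodule.mem_span_range_iff_exists_fun _).1 (hdep (hi₀ j' (hj.trans hsub)))
      exact ⟨fun l => (c l : E), fun l => hmono hsub (c l).2, hc⟩
    obtain ⟨c, hc, hsum⟩ := hrel i₀ le_rfl
    have hall : ∀ l, c l ∈ E' := fun l => hinter _ fun i => by
      obtain ⟨j, hij, hj⟩ := exists_ge_ge i i₀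
      obtain ⟨c', hc', hsum'⟩ := hrel j hj
      have h := Fintype.linearIndependent_iff.1 (hi₀ i₀ le_rfl)
        (fun l => ⟨c l - c' l, sub_mem (hc l) (hmono hj (hc' l))⟩) (by
          simp only [Subfield.smul_def, sub_smul, Finset.sum_sub_distrib, hsum, hsum', sub_self]) l
      have h' : c l - c' l = 0 := congrArg Subtype.val h
      rw [sub_eq_zero.1 h']
      exact hmono hij (hc' l)
    refine hv.2 ((Submodule.mem_span_range_iff_exists_fun _).2 ⟨fun l => ⟨c l, hall l⟩, ?_⟩)
    simpa [Subfield.smul_def] using hsum

variable {k₀ K : Type u} [Field k₀] [Field K] [Algebra k₀ K] (p : ℕ) [Fact p.Prime] [CharP K p]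

/-- The subfield generated over an intermediate field by the `p`-th powers. -/
theorem mem_pField_iff (k : IntermediateField k₀ K) (z : K) :
    z ∈ pField p k K ↔ z ∈ k ⊔ IntermediateField.adjoin k₀ (Set.range fun y : K => y ^ p) := by
  constructor
  · intro hz
    change z ∈ EGA41.pPowerSubalgebra p k K at hz
    induction hz using Algebra.adjoin_induction with
    | mem w hw => exact (le_sup_right : _ ≤ k ⊔ _) (IntermediateField.subset_adjoin k₀ _ hw)
    | algebraMap r => exact (le_sup_left : k ≤ _) r.2
    | add u v _ _ hu hv => exact add_mem hu hv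
    | mul u v _ _ hu hv => exact mul_mem hu hv
  · intro hz
    let F : IntermediateField k₀ K :=
      { pField p k K with
        algebraMap_mem' := fun r => (EGA41.pPowerSubalgebra p k K).algebraMap_mem (algebraMap k₀ k r) }
    refine (sup_le (fun x hx => (EGA41.pPowerSubalgebra p k K).algebraMap_mem ⟨x, hx⟩)
      (IntermediateField.adjoin_le_iff.2 ?_) : k ⊔ _ ≤ F) hz
    rintro _ ⟨y, rfl⟩
    exact pow_mem_pField p k K y

theorem mem_pField_base_iff (z : K) :
    z ∈ pField p k₀ K ↔ z ∈ IntermediateField.adjoin k₀ (Set.range fun y : K => y ^ p) := by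
  constructor
  · intro hz
    change z ∈ EGA41.pPowerSubalgebra p k₀ K at hz
    exact IntermediateField.algebra_adjoin_le_adjoin _ _ hz
  · intro hz
    let F : IntermediateField k₀ K :=
      { pField p k₀ K with algebraMap_mem' := fun r => (EGA41.pPowerSubalgebra p k₀ K).algebraMap_mem r }
    refine (IntermediateField.adjoin_le_iff.2 ?_ : _ ≤ F) hz
    rintro _ ⟨y, rfl⟩
    exact pow_mem_pField p k₀ K y

theorem D_eq_zero_iff (z : K) : D k₀ K z = 0 ↔ z ∈ pField p k₀ K := by
  refine ⟨fun h => ?_, fun h => derivation_pPower_eq_zero p _ ((mem_pField p k₀ K).mp h)⟩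
  by_contra hz
  obtain ⟨d, hd⟩ := KaehlerSubfield.exists_derivation p (pField p k₀ K) (pow_mem_pField p k₀ K) hz
  obtain ⟨e, he⟩ := exists_equiv_pField p k₀ K
  have h1 := congrArg (fun w => d.liftKaehlerDifferential (e w)) h
  simp only [he, map_zero, Derivation.liftKaehlerDifferential_comp_D, hd] at h1
  exact one_ne_zero h1

-- Independent differentials stay independent at some stage of a directed family with the right intersection.
set_option maxHeartbeats 1000000 in
theorem exists_linearIndependent_D {ι : Type u} [Preorder ι] [IsDirected ι (· ≤ ·)] [Nonempty ι]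
    (k : ι → IntermediateField k₀ K) (hk : Antitone k)
    (hinter : (⨅ i, k i ⊔ IntermediateField.adjoin k₀ (Set.range fun y : K => y ^ p)) =
      IntermediateField.adjoin k₀ (Set.range fun y : K => y ^ p))
    {m : ℕ} (x : Fin m → K) (hx : LinearIndependent K fun j => D k₀ K (x j)) :
    ∃ i, LinearIndependent K fun j => D (k i) K (x j) := by
  classical
  let x' : ULift.{u} (Fin m) → K := fun j => x j.down
  have hx' : LinearIndependent K fun j => D k₀ K (x' j) := hx.comp _ ULift.down_injective
  rw [← isPIndependent_iff p, isPIndependent_iff_notMem p, ← linearIndependent_pMonomial_iff p _ (pow_mem_pField p k₀ K)] at hx'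
  haveI : Finite {e : ULift.{u} (Fin m) →₀ ℕ // ∀ i, e i < p} :=
    Finite.of_injective (fun e => fun i => (⟨e.1 i, e.2 i⟩ : Fin p)) fun a b h =>
      Subtype.ext (Finsupp.ext fun i => congrArg Fin.val (congrFun h i))
  let σ := (Finite.exists_equiv_fin {e : ULift.{u} (Fin m) →₀ ℕ // ∀ i, e i < p}).choose_spec.some
  obtain ⟨i, hi⟩ := exists_linearIndependent_directed (fun i => pField p (k i) K) (pField p k₀ K)
    (fun a b hab z hz => (mem_pField_iff p (k a) z).2 ((sup_le_sup (hk hab) le_rfl) ((mem_pField_iff p (k b) z).1 hz)))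
    (fun z hz => (mem_pField_base_iff p z).2 (by
      rw [← hinter, ← SetLike.mem_coe, IntermediateField.coe_iInf, Set.mem_iInter]
      exact fun i => (mem_pField_iff p (k i) z).1 (hz i)))
    (fun j => pMonomial x' (σ.symm j).1) (hx'.comp _ σ.symm.injective)
  refine ⟨i, ?_⟩
  have h2 : LinearIndependent (pField p (k i) K) fun e : {e : ULift.{u} (Fin m) →₀ ℕ // ∀ i, e i < p} => pMonomial x' e.1 := by
    have := (hi i le_rfl).comp σ σ.injective
    simpa [Function.comp_def] using this
  rw [linearIndependent_pMonomial_iff p _ (pow_mem_pField p (k i) K), ← isPIndependent_iff_notMem p, isPIndependent_iff p] at h2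
  exact h2.comp ULift.up ULift.up_injective

end Groth.Agent.Imperf4
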